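import Groth.Agent.ShStabLib.Quot
import Groth.Agent.SerrePn.ExtTwist
import Groth.Agent.AmpleLib.GlobGen
import Groth.Agent.AmpCrit.SerreVan
import Groth.Agent.DefoShLib.Tensor
import Groth.Agent.ParShLib.Curve
import Groth.Agent.SerrePn.Coherent
import Groth.Agent.KSMod.EndFinite

/-!
# Maps from negative powers of an ample module

`A n` is an inverse of `L^{⊗ n}`.  For large `n`, `Hom(A n, G)` has dimension the Hilbert polynomial of
`G`, generates `G`, and is exact; a family of subspaces of `Hom(A n, M)` stable under precomposition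
comes, for large `n`, from one coherent submodule of `M`.
-/

universe u

open CategoryTheory CategoryTheory.Limits AlgebraicGeometry Opposite TopologicalSpace Filter
open Groth.Agent.HilbPolyX Groth.Agent.ShStabLib

set_option linter.style.haveILetI false

noncomputable section

namespace Groth.Agent.ShStabLib.BC

variable {X : Scheme.{u}}

theorem isCoh_biproduct {r : ℕ} (M : Fin r → X.Modules) (h : ∀ j, Coh.IsCoh (M j)) :
    Coh.IsCoh (⨁ M) :=
  CohDev.isCoh_of_iso ((biproduct.isoCoproduct _).symm ≪≫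
      biproduct.whiskerEquiv (g := M) Equiv.ulift.{u} (fun _ => Iso.refl _))
    (SerrePn.isCoh_coprod (fun j : ULift.{u} (Fin r) => M j.down) fun j => h j.down)

/-- A family of inverses of the powers of `L`. -/
structure IsInvSys (L : X.Modules) (A : ℕ → X.Modules) : Prop where
  coh : ∀ n, Coh.IsCoh (A n)
  inv : ∀ n, Nonempty (CohB1.tensorMod (A n) (CohB1.tensorPow L n) ≅ Coh.structureModule X)

theorem twistF_map (L : X.Modules) (n : ℕ) {M N : X.Modules} (φ : M ⟶ N) :
    (twistF L n).map φ = DefoShLib.T (CohB1.tensorPow L n) φ := by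
  show ((DCoh.tensorBi (X := X)).map φ).app _ = _ ≫ _
  rw [CategoryTheory.Functor.map_id, Category.comp_id]

theorem exists_invSys [IsNoetherian X] {L : X.Modules} (hL : PicF.IsInvertible L) :
    ∃ A, IsInvSys L A := by
  choose A hA hiso using fun n : ℕ => PicLaw.exists_inverse (AmpleLib.isInvertible_tensorPow hL n)
  refine ⟨A, fun n => ?_, fun n => ⟨ProjTwist.tensComm _ _ ≪≫ (hiso n).some⟩⟩
  exact CohDev.isCoh_of_iso (ProjTwist.oneTens (A n))
    (ProjTwist.isCoh_tensor (hA n) (ProperFin.isCoh_structureModule X))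

variable {L : X.Modules} {A : ℕ → X.Modules}

theorem isEquivalence_twistF (hA : IsInvSys L A) (n : ℕ) : (twistF L n).IsEquivalence := by
  obtain ⟨e⟩ := hA.inv n
  let P := CohB1.tensorPow L n
  let E : X.Modules ≌ X.Modules := CategoryTheory.Equivalence.mk
    ((DCoh.tensorBi (X := X)).obj P) ((DCoh.tensorBi (X := X)).obj (A n))
    (SerrePn.tensorCompIso (A n) P (Coh.structureModule X) e ≪≫ SerrePn.unitTensorNatIso).symm
    (SerrePn.tensorCompIso P (A n) (Coh.structureModule X) (ProjTwist.tensComm _ _ ≪≫ e) ≪≫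
      SerrePn.unitTensorNatIso)
  haveI hE : ((DCoh.tensorBi (X := X)).obj P).IsEquivalence := E.isEquivalence_functor
  exact @Functor.isEquivalence_of_iso _ _ _ _ _ _ ((KFlat.tensorBiFlipIso (O := X.sheaf)).app P).symm hE

variable (k : Type u) [Field k] [X.Over (Spec (CommRingCat.of k))]

/-- The chosen trivialisation. -/
def invIso (hA : IsInvSys L A) (n : ℕ) : (twistF L n).obj (A n) ≅ Coh.structureModule X :=
  (hA.inv n).some

theorem twistF_linear (n : ℕ) {M N : X.Modules} (c : k) (φ : M ⟶ N) :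
    (twistF L n).map (c • φ) = c • (twistF L n).map φ := by
  rw [twistF_map, twistF_map, DefoShLib.T_smul]
  rfl

/-- `Hom(A n, G) ≅ Hom(O, G(n))`. -/
def homEquiv (hA : IsInvSys L A) (n : ℕ) (G : X.Modules) :
    (A n ⟶ G) ≃ₗ[k] (Coh.structureModule X ⟶ (twistF L n).obj G) :=
  haveI := isEquivalence_twistF hA n
  LinearEquiv.ofBijective
    { toFun := fun φ => (invIso hA n).inv ≫ (twistF L n).map φ
      map_add' := fun φ ψ => by
        refine Eq.trans (congrArg ((invIso hA n).inv ≫ ·) ?_) (Preadditive.comp_add _ _ _ _ _ _)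
        rw [twistF_map, twistF_map, twistF_map, DefoShLib.T_add]
        rfl
      map_smul' := fun c φ => by rw [RingHom.id_apply, twistF_linear, Linear.comp_smul] }
    ⟨fun φ ψ h => (twistF L n).map_injective ((cancel_epi (invIso hA n).inv).1 h),
      fun ψ => ⟨(twistF L n).preimage ((invIso hA n).hom ≫ ψ), by
        show (invIso hA n).inv ≫ (twistF L n).map ((twistF L n).preimage ((invIso hA n).hom ≫ ψ)) = ψ
        rw [Functor.map_preimage, Iso.inv_hom_id_assoc]⟩⟩

/-- Global sections as a vector space over `k`. -/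
def h0Equiv (M : X.Modules) :
    letI : Module k Γ(M, ⊤) := Module.compHom _ (KSMod.kTop k (X ↘ Spec (CommRingCat.of k)))
    Coh.HH X M 0 ≃ₗ[k] Γ(M, ⊤) :=
  letI : Module k Γ(M, ⊤) := Module.compHom _ (KSMod.kTop k (X ↘ Spec (CommRingCat.of k)))
  { Sheaf.H.equiv₀ (Coh.toAb M) CategoryTheory.Limits.isTerminalTop with
    map_smul' := fun a x => by
      show Sheaf.H.equiv₀ (Coh.toAb M) CategoryTheory.Limits.isTerminalTop
        (Sheaf.H.map (Coh.smulAb M (Coh.toGlobal (X ↘ Spec (CommRingCat.of k)) a)) 0 x) = _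
      rw [← Sheaf.H.equiv₀_naturality, Coh.smulAb_app]
      congr 1
      exact congrArg (fun q : X.ringCatSheaf.obj.obj (op ⊤) ⟶ _ => q.hom _)
        (X.ringCatSheaf.obj.map_id (op ⊤)) }

/-- `Hom(O, M) ≅ H^0(M)`. -/
def secEquiv (M : X.Modules) : (Coh.structureModule X ⟶ M) ≃ₗ[k] Coh.HH X M 0 :=
  letI : Module k Γ(M, ⊤) := Module.compHom _ (KSMod.kTop k (X ↘ Spec (CommRingCat.of k)))
  (LinearEquiv.ofBijective
    ({ toFun := fun φ => Props.GenLocus.sec φ ⊤
       map_add' := fun φ ψ => rfl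
       map_smul' := fun c φ => by
        show (c • φ).app ⊤ _ = _
        rw [KLin.smul_app_apply]
        show X.presheaf.map (homOfLE (le_top : (⊤ : X.Opens) ≤ ⊤)).op (KSMod.kTop k (X ↘ Spec (CommRingCat.of k)) c) • (Props.GenLocus.sec φ ⊤ : Γ(M, ⊤)) =
          KSMod.kTop k (X ↘ Spec (CommRingCat.of k)) c • (Props.GenLocus.sec φ ⊤ : Γ(M, ⊤))
        congr 1
        exact congrArg (fun q => q.hom (KSMod.kTop k (X ↘ Spec (CommRingCat.of k)) c))
          (X.presheaf.map_id (op ⊤)) } : (Coh.structureModule X ⟶ M) →ₗ[k] Γ(M, ⊤))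
    ⟨fun φ ψ h => by
      refine Scheme.Modules.hom_ext _ _ fun U => ?_
      ext a
      refine (Props.GenLocus.app_eq φ U a).trans
        (Eq.trans (congrArg (fun t : Γ(M, U) => (show Γ(X, U) from a) • t) ?_)
          (Props.GenLocus.app_eq ψ U a).symm)
      rw [← Props.GenLocus.sec_res φ (le_top : U ≤ ⊤), ← Props.GenLocus.sec_res ψ (le_top : U ≤ ⊤)]
      exact congrArg (fun t : Γ(M, ⊤) => QCoh.res M le_top t) h,
    fun σ => ⟨Props.GenLocus.homOfSec σ, (Props.GenLocus.sec_homOfSec σ ⊤).trans (QCoh.res_self _ _ _)⟩⟩).trans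
    (h0Equiv k M).symm

variable [IsProper (X ↘ Spec (CommRingCat.of k))] (hL : CohB1.IsAmple L) (hA : IsInvSys L A)

include hA in
theorem finite_hom {G : X.Modules} (hL' : PicF.IsInvertible L) (hG : Coh.IsCoh G) (n : ℕ) :
    Module.Finite k (A n ⟶ G) := by
  haveI := EulerChar.finite_HH k ((twistF L n).obj G) (isCoh_twist k hL' hG n) 0
  exact Module.Finite.equiv ((homEquiv k hA n G).trans (secEquiv k _)).symm

include k hL hA in
theorem eventually_finrank {G : X.Modules} (hG : Coh.IsCoh G) : ∀ᶠ n in atTop,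
    (Module.finrank k (A n ⟶ G) : ℚ) = (hilb k L G).eval (n : ℚ) := by
  obtain ⟨n₀, hn₀⟩ := AmpCrit.SerreVan.serre_vanishing (X ↘ Spec (CommRingCat.of k)) hL G hG
  filter_upwards [eventually_ge_atTop n₀] with n hn
  rw [← isHilbPoly_hilb k hL hG n, EulerChar.euler_eq_sum k (M := ShStab.twist X L G n) (t := 1) fun p hp => hn₀ n hn p (by omega),
    LinearEquiv.finrank_eq ((homEquiv k hA n G).trans (secEquiv k _))]
  simp [ShStab.twist, twistF_obj]
  rfl

/-- A family of maps with no common nonzero map out of the target. -/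
def JEpi {ι : Type*} {B : ι → X.Modules} {G : X.Modules} (g : ∀ i, B i ⟶ G) : Prop :=
  ∀ {Z : X.Modules} (ψ : G ⟶ Z), (∀ i, g i ≫ ψ = 0) → ψ = 0

include k hL hA in
theorem eventually_jEpi {G : X.Modules} (hG : Coh.IsCoh G) : ∀ᶠ n in atTop,
    ∃ (r : ℕ) (g : Fin r → (A n ⟶ G)), JEpi g := by
  obtain ⟨n₀, hn₀⟩ := AmpleLib.eventually_globallyGenerated hL hG.1 hG.2
  filter_upwards [eventually_ge_atTop n₀] with n hn
  obtain ⟨ι, p, hp⟩ := hn₀ n hn
  haveI := finite_hom k hA hL.1 hG n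
  let b := Module.finBasis k (A n ⟶ G)
  refine ⟨_, b, fun {Z} ψ hψ => ?_⟩
  have hall : ∀ φ : A n ⟶ G, φ ≫ ψ = 0 := fun φ => by
    rw [← b.sum_repr φ, Preadditive.sum_comp]
    exact Finset.sum_eq_zero fun i _ => by rw [Linear.smul_comp, hψ i, smul_zero]
  haveI := isEquivalence_twistF hA n
  refine (twistF L n).map_injective ?_
  rw [Functor.map_zero]
  let p' : (SheafOfModules.free ι : X.Modules) ⟶ (twistF L n).obj G := p
  haveI : Epi p' := hp
  refine (cancel_epi p').1 (Eq.trans ?_ comp_zero.symm)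
  refine Sigma.hom_ext _ _ fun i => Eq.trans ?_ comp_zero.symm
  obtain ⟨φ, hφ⟩ := (homEquiv k hA n G).surjective
    (show Coh.structureModule X ⟶ (twistF L n).obj G from
      Sigma.ι (fun _ : ι => SheafOfModules.unit X.ringCatSheaf) i ≫ p')
  have h2 : (show Coh.structureModule X ⟶ (twistF L n).obj G from
      Sigma.ι (fun _ : ι => SheafOfModules.unit X.ringCatSheaf) i ≫ p') ≫ (twistF L n).map ψ = 0 := by
    rw [← hφ]
    show ((invIso hA n).inv ≫ (twistF L n).map φ) ≫ (twistF L n).map ψ = 0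
    rw [Category.assoc, ← Functor.map_comp, hall, Functor.map_zero, comp_zero]
  exact (Category.assoc _ _ _).symm.trans h2

include k hL hA in
theorem eventually_span_eq_top {G : X.Modules} (hG : Coh.IsCoh G) {m₀ r : ℕ}
    (g : Fin r → (A m₀ ⟶ G)) (hg : JEpi g) : ∀ᶠ n in atTop, ∀ φ : A n ⟶ G,
      ∃ t : Fin r → (A n ⟶ A m₀), φ = ∑ i, t i ≫ g i := by
  classical
  let B : X.Modules := ⨁ fun _ : Fin r => A m₀
  have hB : Coh.IsCoh B := isCoh_biproduct _ fun _ => hA.coh m₀
  let π : B ⟶ G := biproduct.desc g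
  haveI : Epi π := Preadditive.epi_of_cancel_zero π fun ψ hψ => hg ψ fun i => by
    rw [show g i = biproduct.ι (fun _ : Fin r => A m₀) i ≫ π from (biproduct.ι_desc _ _).symm,
      Category.assoc, hψ, comp_zero]
  have hK := isCoh_of_kernel k π hB hG
  filter_upwards [eventually_finrank k hL hA hB, eventually_finrank k hL hA hG,
    eventually_finrank k hL hA hK] with n hnB hnG hnK φ
  haveI := finite_hom k hA hL.1 hB n
  haveI := finite_hom k hA hL.1 hG n
  have hker : LinearMap.ker (Linear.rightComp k (A n) π) =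
      LinearMap.range (Linear.rightComp k (A n) (kernel.ι π)) := by
    refine le_antisymm (fun ψ hψ => ⟨kernel.lift π ψ hψ, kernel.lift_ι π ψ hψ⟩) ?_
    rintro _ ⟨ψ, rfl⟩
    show (ψ ≫ kernel.ι π) ≫ π = 0
    rw [Category.assoc, kernel.condition, comp_zero]
  have hinj : Function.Injective (Linear.rightComp k (A n) (kernel.ι π)) := fun a b h =>
    (cancel_mono (kernel.ι π)).1 h
  have hrk := LinearMap.finrank_range_add_finrank_ker (Linear.rightComp k (A n) π)
  rw [hker, LinearMap.finrank_range_of_inj hinj] at hrk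
  have hP := congrArg (Polynomial.eval (n : ℚ)) (hilb_epi k hL π hB hG)
  rw [Polynomial.eval_add, ← hnB, ← hnG, ← hnK] at hP
  have htop : LinearMap.range (Linear.rightComp k (A n) π) = ⊤ :=
    Submodule.eq_top_of_finrank_eq (by
      have : (Module.finrank k (LinearMap.range (Linear.rightComp k (A n) π)) : ℚ) =
          (Module.finrank k (A n ⟶ G) : ℚ) := by
        have h' : ((Module.finrank k (LinearMap.range (Linear.rightComp k (A n) π)) : ℕ) : ℚ) +
            (Module.finrank k (A n ⟶ kernel π) : ℚ) = (Module.finrank k (A n ⟶ B) : ℚ) := by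
          exact_mod_cast hrk
        linarith
      exact_mod_cast this)
  obtain ⟨ψ, hψ⟩ := LinearMap.range_eq_top.1 htop φ
  refine ⟨fun i => ψ ≫ biproduct.π _ i, ?_⟩
  calc φ = ψ ≫ π := hψ.symm
    _ = (ψ ≫ ∑ i, biproduct.π (fun _ : Fin r => A m₀) i ≫ biproduct.ι (fun _ : Fin r => A m₀) i) ≫ π := by
      rw [biproduct.total, Category.comp_id]
    _ = _ := by simp [Preadditive.comp_sum, Preadditive.sum_comp, π]

include k hL hA in
/-- A family of subspaces stable under precomposition comes from a coherent submodule. -/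
theorem exists_sub_of_family {M : X.Modules} (hM : Coh.IsCoh M)
    (U : ∀ n, Submodule k (A n ⟶ M)) (n₁ : ℕ)
    (hU : ∀ n n', n₁ ≤ n → n₁ ≤ n' → ∀ (t : A n' ⟶ A n) (φ : A n ⟶ M), φ ∈ U n → t ≫ φ ∈ U n') :
    ∃ (S : Subobject M) (i : ℕ), IsCohSub S ∧ n₁ ≤ i ∧
      (∀ {Z : X.Modules} (ψ : M ⟶ Z), (∀ φ ∈ U i, φ ≫ ψ = 0) → S.arrow ≫ ψ = 0) ∧
      (∀ n, n₁ ≤ n → ∀ φ ∈ U n, S.Factors φ) ∧
      ∀ᶠ n in atTop, (∀ φ : A n ⟶ M, φ ∈ U n ↔ S.Factors φ) ∧
        (U n ≤ Submodule.span k {χ | ∃ (t : A n ⟶ A i) (φ : A i ⟶ M), φ ∈ U i ∧ t ≫ φ = χ}) ∧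
        (Module.finrank k (U n) : ℚ) = (hs k L S).eval (n : ℚ) := by
  classical
  haveI := EulerChar.isNoetherian k (X := X)
  haveI := fun n => finite_hom k hA hL.1 hM n
  let b := fun n => Module.finBasis k (U n)
  let B : ℕ → X.Modules := fun n => ⨁ fun _ : Fin (Module.finrank k (U n)) => A n
  have hB : ∀ n, Coh.IsCoh (B n) := fun n => isCoh_biproduct _ fun _ => hA.coh n
  let π : ∀ n, B n ⟶ M := fun n => biproduct.desc fun a => (b n a : A n ⟶ M)
  let S : ℕ → Subobject M := fun n => imageSubobject (π n)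
  have hS : ∀ n, IsCohSub (S n) := fun n =>
    CohDev.isCoh_of_iso ((imageSubobjectIso (π n)).symm)
      (CohDev.isCoh_of_iso (Abelian.imageIsoImage (π n)) (CohDev.isCoh_image (π n) (hB n) hM.1))
  have hfac : ∀ n, ∀ φ ∈ U n, (S n).Factors φ := fun n φ hφ => by
    rw [show φ = (∑ a, (b n).repr ⟨φ, hφ⟩ a • biproduct.ι (fun _ => A n) a) ≫ π n from ?_]
    · refine Subobject.factors_of_factors_right _ ?_
      have h := Subobject.factors_comp_arrow (P := imageSubobject (π n)) (factorThruImageSubobject (π n))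
      rwa [imageSubobject_arrow_comp] at h
    · have e := congrArg Subtype.val ((b n).sum_repr ⟨φ, hφ⟩)
      simp only [π, Preadditive.sum_comp, Linear.smul_comp, biproduct.ι_desc]
      simpa only [Submodule.coe_sum, Submodule.coe_smul] using e.symm
  have hgen : ∀ n, ∀ {Z : X.Modules} (ψ : M ⟶ Z), (∀ φ ∈ U n, φ ≫ ψ = 0) →
      (S n).arrow ≫ ψ = 0 := fun n Z ψ h => by
    rw [← cancel_epi (factorThruImageSubobject (π n)), imageSubobject_arrow_comp_assoc, comp_zero]
    refine biproduct.hom_ext' _ _ fun a => ?_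
    rw [comp_zero, ← Category.assoc, biproduct.ι_desc]
    exact h _ (b n a).2
  have hle : ∀ n, n₁ ≤ n → ∀ᶠ n' in atTop, S n ≤ S n' := fun n hn => by
    filter_upwards [eventually_jEpi k hL hA (hA.coh n), eventually_ge_atTop n₁] with n' ⟨r, t, ht⟩ hn'
    refine Subobject.le_of_factors ?_
    rw [ParShLib.factors_iff_comp_eq_zero]
    refine hgen n _ fun φ hφ => ht _ fun a => ?_
    rw [← Category.assoc, ← ParShLib.factors_iff_comp_eq_zero]
    exact hfac n' _ (hU n n' hn hn' (t a) φ hφ)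
  haveI := wellFoundedGT_cohSub hM
  obtain ⟨T, ⟨i, hi, hTi⟩, hmax⟩ := (wellFounded_gt (α := {S : Subobject M // IsCohSub S})).has_min
    {T | ∃ n, n₁ ≤ n ∧ T.1 = S n} ⟨⟨S n₁, hS n₁⟩, n₁, le_rfl, rfl⟩
  have hall : ∀ n, n₁ ≤ n → S n ≤ S i := fun n hn => by
    obtain ⟨n', h1, h2, h3⟩ := ((hle n hn).and ((hle i hi).and (eventually_ge_atTop n₁))).exists
    have : S i = S n' := le_antisymm h2 (by
      by_contra h
      exact hmax ⟨S n', hS n'⟩ ⟨n', h3, rfl⟩ (show T.1 < S n' from hTi ▸ lt_of_le_not_ge h2 h))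
    exact this ▸ h1
  refine ⟨S i, i, hS i, hi, fun ψ h => hgen i ψ h,
    fun n hn φ hφ => Subobject.factors_of_le _ (hall n hn) (hfac n φ hφ), ?_⟩
  have hgi : JEpi (G := (S i : X.Modules)) fun a : Fin (Module.finrank k (U i)) =>
      (S i).factorThru (b i a : A i ⟶ M) (hfac i _ (b i a).2) := fun {Z} ψ hψ => by
    rw [← cancel_epi (factorThruImageSubobject (π i)), comp_zero]
    refine biproduct.hom_ext' _ _ fun a => ?_
    rw [comp_zero, ← Category.assoc]
    refine Eq.trans ?_ (hψ a)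
    congr 1
    rw [← cancel_mono (S i).arrow, Category.assoc, imageSubobject_arrow_comp,
      Subobject.factorThru_arrow, biproduct.ι_desc]
  filter_upwards [eventually_span_eq_top k hL hA (hS i) _ hgi, eventually_ge_atTop n₁,
    eventually_finrank k hL hA (hS i)] with n hspan hn hdim
  have hmem : ∀ φ : A n ⟶ M, (S i).Factors φ →
      φ ∈ U n ∧ φ ∈ Submodule.span k {χ | ∃ (t : A n ⟶ A i) (ψ : A i ⟶ M), ψ ∈ U i ∧ t ≫ ψ = χ} :=
    fun φ h => by
    obtain ⟨t, ht⟩ := hspan ((S i).factorThru φ h)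
    have e : φ = ∑ a, t a ≫ (b i a : A i ⟶ M) := by
      rw [← Subobject.factorThru_arrow (S i) φ h, ht, Preadditive.sum_comp]
      exact Finset.sum_congr rfl fun a _ => by rw [Category.assoc, Subobject.factorThru_arrow]
    rw [e]
    exact ⟨Submodule.sum_mem _ fun a _ => hU i n hi hn (t a) _ (b i a).2,
      Submodule.sum_mem _ fun a _ => Submodule.subset_span ⟨t a, _, (b i a).2, rfl⟩⟩
  have hiff : ∀ φ : A n ⟶ M, φ ∈ U n ↔ (S i).Factors φ := fun φ =>
    ⟨fun h => Subobject.factors_of_le _ (hall n hn) (hfac n φ h), fun h => (hmem φ h).1⟩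
  refine ⟨hiff, fun φ h => (hmem φ ((hiff φ).1 h)).2, ?_⟩
  have hr : U n = LinearMap.range (Linear.rightComp k (A n) (S i).arrow) := by
    ext φ
    rw [hiff φ]
    exact ⟨fun h => ⟨(S i).factorThru φ h, Subobject.factorThru_arrow (S i) φ h⟩,
      by rintro ⟨ψ, rfl⟩; exact Subobject.factors_comp_arrow ψ⟩
  rw [hr, LinearMap.finrank_range_of_inj fun a c h => (cancel_mono (S i).arrow).1 h, hdim]

end Groth.Agent.ShStabLib.BC
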